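import Groth.Agent.CatenarySp.Local
import Groth.Agent.SpDimTrdeg.Basic
import Groth.Agent.FlatFunLib.NoVertical
import Groth.Agent.DeltaZ.DimFun

/-!
# `δ_Z` along morphisms of finite type
-/

set_option autoImplicit false
set_option linter.style.haveILetI false

universe u

open CategoryTheory CategoryTheory.Limits AlgebraicGeometry Algz Topology

namespace Groth.Agent.DeltaZFT

open Groth.Agent.DeltaZ

variable {Y Y' : Scheme.{u}}

theorem resTrdeg_id (x : Y) : Dual3.resTrdeg (𝟙 Y) x = 0 := by
  have h : ((𝟙 Y : Y ⟶ Y).residueFieldMap x).hom.Finite := by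
    rw [Scheme.residueFieldMap_id]
    exact RingHom.Finite.id _
  unfold Dual3.resTrdeg
  let := ((𝟙 Y : Y ⟶ Y).residueFieldMap x).hom.toAlgebra
  have : Module.Finite (Y.residueField ((𝟙 Y : Y ⟶ Y) x)) (Y.residueField x) := h
  exact trdeg_eq_zero

/-- codimensions from a dimension function on the generisations of a point -/
theorem codimPt_of_gens {X : Type u} [TopologicalSpace X] [T0Space X] (δ : X → ℤ) {u : X}
    (hδ : ∀ w v : X, w ⤳ v → v ⤳ u → w ≠ v →
      δ v < δ w ∧ ((∀ z : X, w ⤳ z → z ⤳ v → z = w ∨ z = v) → δ w = δ v + 1))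
    {w : X} (h : w ⤳ u) : codimPt w u h = ((δ w - δ u).toNat : ℕ∞) ∧ δ u ≤ δ w := by
  let G := {x : X // x ⤳ u}
  have hsp : ∀ a b : G, a ⤳ b ↔ a.1 ⤳ b.1 := fun a b => subtype_specializes_iff ..
  let a : G := ⟨w, h⟩
  let b : G := ⟨u, specializes_refl u⟩
  have h' : a ⤳ b := (hsp a b).2 h
  obtain ⟨h1, h2⟩ := codimPt_eq_of_dimFun (fun x : G => δ x.1) (fun x y hxy hne => by
    obtain ⟨h1, h2⟩ := hδ x.1 y.1 ((hsp x y).1 hxy) y.2 fun e => hne (Subtype.ext e)
    refine ⟨h1, fun hz => h2 fun z hz1 hz2 => ?_⟩
    exact (hz ⟨z, hz2.trans y.2⟩ ((hsp _ _).2 hz1) ((hsp _ _).2 hz2)).imp (congrArg Subtype.val)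
      (congrArg Subtype.val)) h'
  refine ⟨?_, h2⟩
  rw [← h1]
  exact codimPt_map Subtype.val IsInducing.subtypeVal Subtype.val_injective
    (fun x z hz => ⟨⟨z, hz.trans x.2⟩, rfl⟩) h' h

theorem codim_formula [IsLocallyNoetherian Y] (hY : ∀ y : Y, CAlg.IsUniversallyCatenary (Y.presheaf.stalk y))
    (f : Y' ⟶ Y) [LocallyOfFiniteType f] (t : Y' → ℕ) (ht : ∀ x, Dual3.resTrdeg f x = (t x : Cardinal.{u}))
    {w v : Y'} (h : w ⤳ v) (h' : f w ⤳ f v) :
    ∃ a b : ℕ, codimPt w v h = a ∧ codimPt (f w) (f v) h' = b ∧ a + t v = b + t w := by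
  obtain ⟨c, hc⟩ := CatenarySp.exists_dimFun_gens (f v) (hY (f v))
  obtain ⟨h1, h1'⟩ := codimPt_of_gens (fun x => c (f x) + ((t x : ℕ) : ℤ)) (u := v) (fun a b hab hb hne => by
    have := hc f v rfl a b hab hb hne
    simpa [ht] using this) h
  obtain ⟨h2, h2'⟩ := codimPt_of_gens c (u := f v) (fun a b hab hb hne => by
    have := hc (𝟙 Y) (f v) rfl a b hab hb hne
    simpa [resTrdeg_id] using this) h'
  refine ⟨_, _, h1, h2, ?_⟩
  simp only at h1' ⊢
  omega

theorem deltaZ_preimage [IsLocallyNoetherian Y] (hY : ∀ y : Y, CAlg.IsUniversallyCatenary (Y.presheaf.stalk y))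
    (Z : Set Y) (f : Y' ⟶ Y) [LocallyOfFiniteType f] (e : ℕ)
    (hfib : ∀ y : Y, topologicalKrullDim ↑(pullback f (Y.fromSpecResidueField y)) ≤ (e : WithBot ℕ∞)) (y' : Y')
    (t : ℕ) (ht : Dual3.resTrdeg f y' = (t : Cardinal.{u})) :
    deltaZ Z (f y') + t ≤ deltaZ (f ⁻¹' Z) y' + e := by
  choose tt htt using SpDimTrdeg.exists_resTrdeg_eq_nat f
  have hte : ∀ x, tt x ≤ e := fun x => by
    have h1 := FlatFunLib.natCast_le_fibreDimAt_of_resTrdeg f x (tt x) (htt x).ge
    have h2 : FlatMor.fibreDimAt f x ≤ (e : WithBot ℕ∞) :=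
      (iInf_le _ ⟨⊤, trivial⟩).trans ((topologicalKrullDim_subspace_le _ _).trans (hfib (f x)))
    exact_mod_cast h1.trans h2
  have htt' : tt y' = t := by exact_mod_cast (htt y').symm.trans ht
  rcases isEmpty_or_nonempty (Σ k, DSystem (f ⁻¹' Z) y' k) with hE | hE
  · have : deltaZ (f ⁻¹' Z) y' = ⊤ := by
      simp only [deltaZ, iInf_eq_top]
      exact fun k S => (hE.false ⟨k, S⟩).elim
    simp [this]
  · obtain ⟨⟨k, S⟩⟩ := hE
    suffices H : ∀ (k : ℕ) (S : DSystem (f ⁻¹' Z) y' k), deltaZ Z (f y') + t ≤ S.delta + e by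
      rw [show deltaZ (f ⁻¹' Z) y' = ⨅ (k : ℕ) (S : DSystem (f ⁻¹' Z) y' k), S.delta from rfl, ENat.iInf_add]
      refine le_iInf fun k => ?_
      rw [ENat.iInf_add]
      exact le_iInf fun S => H k S
    clear k S
    intro k S
    obtain ⟨M, hM, hterm⟩ := le_delta_term S
    rw [hM]
    induction M using ENat.recTopCoe with
    | top => simp
    | coe M =>
      let S' : DSystem Z (f y') k :=
        { v := f ∘ S.v
          w := f ∘ S.w
          spec := fun i => (S.spec i).map f.continuous
          spec_succ := fun i => (S.spec_succ i).map f.continuous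
          start_mem := S.start_mem
          last_eq := congrArg f S.last_eq }
      choose a a' ha ha' hsum using fun i => codim_formula hY f tt htt (S.spec i) ((S.spec i).map f.continuous)
      choose b b' hb hb' hbsum using
        fun i => codim_formula hY f tt htt (S.spec_succ i) ((S.spec_succ i).map f.continuous)
      have hc1 : S.c = fun j => (a j : ℕ∞) := funext ha
      have hb1 : S.b = fun j => (b j : ℕ∞) := funext hb
      have hc2 : S'.c = fun j => (a' j : ℕ∞) := funext ha'
      have hb2 : S'.b = fun j => (b' j : ℕ∞) := funext hb'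
      -- the shifted inequality for each index
      have key : ∀ i : Fin (k + 1), (∑ j : Fin (k + 1), if i ≤ j then a' j else 0) + t ≤
          M + e + ∑ j : Fin k, if i.val ≤ j.val then b' j else 0 := by
        intro i
        have h1 : (∑ j : Fin (k + 1), if i ≤ j then a j else 0) ≤
            M + ∑ j : Fin k, if i.val ≤ j.val then b j else 0 := by
          have := hterm i
          simp only [hc1, hb1] at this
          exact_mod_cast this
        have h2 : (∑ j : Fin (k + 1), if i ≤ j then (a j : ℤ) - a' j else 0) -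
            (∑ j : Fin k, if i.val ≤ j.val then (b j : ℤ) - b' j else 0) = (t : ℤ) - tt (S.v i) := by
          have ea : ∀ j, (a j : ℤ) - a' j = (tt (S.w j) : ℤ) - tt (S.v j) := fun j => by
            have := hsum j; omega
          have eb : ∀ j : Fin k, (b j : ℤ) - b' j = (tt (S.w j.castSucc) : ℤ) - tt (S.v j.succ) := fun j => by
            have := hbsum j; omega
          simp only [ea, eb]
          rw [show (t : ℤ) = tt (S.w (Fin.last k)) by rw [S.last_eq, htt']]
          have e1 : ∀ (x : Prop) [Decidable x] (p q : ℤ), (if x then p - q else 0) =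
              (if x then p else 0) - if x then q else 0 := fun x _ p q => by split_ifs <;> ring
          simp only [e1, Finset.sum_sub_distrib]
          have hw : (∑ j : Fin (k + 1), if i ≤ j then (tt (S.w j) : ℤ) else 0) =
              (∑ j : Fin k, if i.val ≤ j.val then (tt (S.w j.castSucc) : ℤ) else 0) + tt (S.w (Fin.last k)) := by
            rw [Fin.sum_univ_castSucc]
            simp [Fin.le_def, Fin.is_le]
          have hv : (∑ j : Fin (k + 1), if i ≤ j then (tt (S.v j) : ℤ) else 0) =
              (∑ j : Fin k, if i.val ≤ j.val then (tt (S.v j.succ) : ℤ) else 0) + tt (S.v i) := by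
            have hsplit : ∀ j : Fin (k + 1), (if i ≤ j then (tt (S.v j) : ℤ) else 0) =
                (if i = j then (tt (S.v j) : ℤ) else 0) + if i < j then (tt (S.v j) : ℤ) else 0 := fun j => by
              rcases lt_trichotomy i j with h | h | h
              · simp [h.le, h.ne, h]
              · simp [h]
              · simp [h.not_ge, h.ne', h.not_gt]
            simp only [hsplit, Finset.sum_add_distrib, Finset.sum_ite_eq, Finset.mem_univ, if_true]
            rw [Fin.sum_univ_succ]
            simp [Fin.lt_def, add_comm]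
          rw [hw, hv]
          ring
        have h3 := hte (S.v i)
        have e1 : ∀ (x : Prop) [Decidable x] (p q : ℤ), (if x then p - q else 0) =
            (if x then p else 0) - if x then q else 0 := fun x _ p q => by split_ifs <;> ring
        simp only [e1, Finset.sum_sub_distrib] at h2
        rw [← Nat.cast_le (α := ℤ)] at h1 h3 ⊢
        simp only [Nat.cast_add, Nat.cast_sum, Nat.cast_ite, Nat.cast_zero] at h1 ⊢
        linarith
      have hlast := key (Fin.last k)
      have htM : t ≤ M + e := by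
        have : (∑ j : Fin k, if (Fin.last k).val ≤ j.val then b' j else 0) = 0 :=
          Finset.sum_eq_zero fun j _ => if_neg (by simp)
        omega
      refine le_trans (add_le_add ((deltaZ_le_delta S').trans (delta_le S' ((M + e - t : ℕ) : ℕ∞) fun i => ?_))
        le_rfl) ?_
      · simp only [hc2, hb2]
        have := key i
        exact_mod_cast (show (∑ j : Fin (k + 1), if i ≤ j then a' j else 0) ≤
          (M + e - t) + ∑ j : Fin k, if i.val ≤ j.val then b' j else 0 by omega)
      · exact_mod_cast (show k + (M + e - t) + t ≤ k + M + e by omega)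

end Groth.Agent.DeltaZFT
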